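import Cfsg.Agent.H334.B2.Num

/-! # The certificate, part 2 (helper334) -/

set_option autoImplicit false
set_option maxRecDepth 100000
set_option Elab.async false

namespace Cfsg.Agent.H334.B2

theorem c_23 : tst l19 23 = true := by decide +kernel

theorem c_29 : tst l19 29 = true := by decide +kernel

end Cfsg.Agent.H334.B2
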