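import Cfsg.Agent.H334.B2.Num

/-! # The certificate, part 4 (helper334) -/

set_option autoImplicit false
set_option maxRecDepth 100000
set_option Elab.async false

namespace Cfsg.Agent.H334.B2

theorem c_713 : tst l19 713 = true := by decide +kernel

theorem c_899 : tst l19 899 = true := by decide +kernel

theorem c_20677 : tst l19 20677 = true := by decide +kernel

theorem c_1081 : tst l19 1081 = true := by decide +kernel

theorem c_1363 : tst l19 1363 = true := by decide +kernel

theorem c_31349 : tst l19 31349 = true := by decide +kernel

theorem c_1457 : tst l19 1457 = true := by decide +kernel

theorem c_33511 : tst l19 33511 = true := by decide +kernel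

theorem c_42253 : tst l19 42253 = true := by decide +kernel

theorem c_971819 : tst l19 971819 = true := by decide +kernel

theorem c_1633 : tst l19 1633 = true := by decide +kernel

theorem c_2059 : tst l19 2059 = true := by decide +kernel

theorem c_47357 : tst l19 47357 = true := by decide +kernel

theorem c_2201 : tst l19 2201 = true := by decide +kernel

theorem c_50623 : tst l19 50623 = true := by decide +kernel

theorem c_63829 : tst l19 63829 = true := by decide +kernel

theorem c_1468067 : tst l19 1468067 = true := by decide +kernel

theorem c_3337 : tst l19 3337 = true := by decide +kernel

theorem c_76751 : tst l19 76751 = true := by decide +kernel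

theorem c_96773 : tst l19 96773 = true := by decide +kernel

theorem c_2225779 : tst l19 2225779 = true := by decide +kernel

theorem c_103447 : tst l19 103447 = true := by decide +kernel

theorem c_2379281 : tst l19 2379281 = true := by decide +kernel

theorem c_2999963 : tst l19 2999963 = true := by decide +kernel

theorem c_68999149 : tst l19 68999149 = true := by decide +kernel

end Cfsg.Agent.H334.B2
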