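import Cfsg.Agent.H334.B2.C1
import Cfsg.Agent.H334.B2.C2
import Cfsg.Agent.H334.B2.C3
import Cfsg.Agent.H334.B2.C4

/-! # The certificate (helper334) -/

set_option autoImplicit false
set_option maxRecDepth 100000

namespace Cfsg.Agent.H334.B2

theorem cert_all : tst l71 1 = true :=
  tst_cons (p := 71) rfl
    (tst_cons (p := 47) rfl
      (tst_cons (p := 31) rfl
        (tst_cons (p := 29) rfl
          (tst_cons (p := 23) rfl c_1 c_23)
          (tst_cons (p := 23) rfl c_29 c_667))
        (tst_cons (p := 29) rfl
          (tst_cons (p := 23) rfl c_31 c_713)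
          (tst_cons (p := 23) rfl c_899 c_20677)))
      (tst_cons (p := 31) rfl
        (tst_cons (p := 29) rfl
          (tst_cons (p := 23) rfl c_47 c_1081)
          (tst_cons (p := 23) rfl c_1363 c_31349))
        (tst_cons (p := 29) rfl
          (tst_cons (p := 23) rfl c_1457 c_33511)
          (tst_cons (p := 23) rfl c_42253 c_971819))))
    (tst_cons (p := 47) rfl
      (tst_cons (p := 31) rfl
        (tst_cons (p := 29) rfl
          (tst_cons (p := 23) rfl c_71 c_1633)
          (tst_cons (p := 23) rfl c_2059 c_47357))
        (tst_cons (p := 29) rfl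
          (tst_cons (p := 23) rfl c_2201 c_50623)
          (tst_cons (p := 23) rfl c_63829 c_1468067)))
      (tst_cons (p := 31) rfl
        (tst_cons (p := 29) rfl
          (tst_cons (p := 23) rfl c_3337 c_76751)
          (tst_cons (p := 23) rfl c_96773 c_2225779))
        (tst_cons (p := 29) rfl
          (tst_cons (p := 23) rfl c_103447 c_2379281)
          (tst_cons (p := 23) rfl c_2999963 c_68999149))))

end Cfsg.Agent.H334.B2
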