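import Cfsg.Agent.H606.OreM.Tabs

/-!
# The Monster: degrees prime to 59 and 41 (S4173; helper334): the test and its pieces
-/

set_option autoImplicit false

namespace Cfsg.Agent.H334.B2

open Cfsg.Agent.H606.OreM.Num

/-- The test of a degree; the masks of the residues modulo 59 (`± 1, ± 29`) and 41 (`± 1`). -/
def cert (T : List (ℕ × List (List ℕ × ℕ))) (d : ℕ) : Bool :=
  Bool.rec (motive := fun _ => Bool) true
    (Bool.rec (motive := fun _ => Bool) true
      (!(mem [0, 1, 35, 36, 70] (d % 71)) || Nat.blt d 196883 || !(mem [0, 1, 2, 27, 28] (d % 29)) || testD cA cB T d)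
      (bit 1099511627778 (d % 41)))
    (bit 288230377762324482 (d % 59))

/-- the bound -/
def LL : ℕ := 16134478424

/-- the test for the multiples of `x` -/
def tst (l : List (ℕ × ℕ)) (x : ℕ) : Bool := chkL 16134478424 l (cert tabs) x

theorem tst_cons {p : ℕ} {l : List (ℕ × ℕ)} {x y : ℕ} (hy : x * p = y) (h0 : tst l x = true) (h1 : tst l y = true) :
    tst ((p, 1) :: l) x = true := by
  subst hy
  show pwL 16134478424 p 1 (tst l) x = true
  rw [pwL_succ, h0, Bool.true_and, pwL_zero, h1, Bool.or_true]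

/-- the primes up to 19 -/
def l19 : List (ℕ × ℕ) := [(19, 1), (17, 1), (13, 3), (11, 2), (7, 6), (5, 9), (3, 20), (2, 46)]

/-- the primes up to 17 -/
def l17 : List (ℕ × ℕ) := [(17, 1), (13, 3), (11, 2), (7, 6), (5, 9), (3, 20), (2, 46)]

/-- the primes up to 13 -/
def l13 : List (ℕ × ℕ) := [(13, 3), (11, 2), (7, 6), (5, 9), (3, 20), (2, 46)]

/-- the primes up to 23 -/
def l23 : List (ℕ × ℕ) := (23, 1) :: l19

/-- the primes up to 29 -/
def l29 : List (ℕ × ℕ) := (29, 1) :: l23

/-- the primes up to 31 -/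
def l31 : List (ℕ × ℕ) := (31, 1) :: l29

/-- the primes up to 47 -/
def l47 : List (ℕ × ℕ) := (47, 1) :: l31

/-- all the primes without 59 and 41 -/
def l71 : List (ℕ × ℕ) := (71, 1) :: l47

end Cfsg.Agent.H334.B2
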